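import Cfsg.Agent.Lib.SporadicB.He.Data
import Cfsg.Agent.Lib.SporRecognition.Cert.He2058.Orbits

/-! Checks for the action of the point stabiliser of He on 136 points and on quadratic forms. -/

set_option autoImplicit false
set_option linter.all false
set_option Elab.async false

namespace CfsgLib.SporadicB.He

open CfsgLib.SporRecognition.CosetCert (allBelow trace field sel)
open CfsgLib.SporRecognition.Cert.He2058 (subT)

/-- Product of codes of elements of the field with four elements. -/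
def cmul (a b : Nat) : Nat := if a = 0 then 0 else if b = 0 then 0 else (a + b - 2) % 3 + 1

/-- Entry of a matrix given by digits. -/
noncomputable def entry (M : Nat → Nat) (r c : Fin 4) : Nat := M (4 * r + c)

/-- Digit of a vector. -/
noncomputable def vdig (x : Nat) (r : Fin 4) : Nat := field x 2 r

/-- Coordinates of the product of a matrix with a vector. -/
noncomputable def mvDig (M : Nat → Nat) (x : Nat) (r : Fin 4) : Nat :=
  Nat.xor (Nat.xor (cmul (entry M r 0) (vdig x 0)) (cmul (entry M r 1) (vdig x 1)))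
    (Nat.xor (cmul (entry M r 2) (vdig x 2)) (cmul (entry M r 3) (vdig x 3)))

/-- The value of form `i` at the vector `x`. -/
noncomputable def form (i x : Nat) : Nat := field (formL0 i) 2 x

noncomputable def restrictStep (i : Nat) : Bool :=
  Nat.blt (pt i) 2058 && (bif Nat.beq i 0 then true else Nat.blt (pt (Nat.sub i 1)) (pt i))
  && Nat.blt (k0 i) 136 && Nat.beq (sel subT 0 (pt i)) (pt (k0 i))
  && Nat.blt (k1 i) 136 && Nat.beq (sel subT 1 (pt i)) (pt (k1 i))
  && Nat.blt (k2 i) 136 && Nat.beq (sel subT 2 (pt i)) (pt (k2 i))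
  && Nat.blt (k3 i) 136 && Nat.beq (sel subT 3 (pt i)) (pt (k3 i))
  && Nat.blt (k4 i) 136 && Nat.beq (sel subT 4 (pt i)) (pt (k4 i))
  && Nat.blt (k5 i) 136 && Nat.beq (sel subT 5 (pt i)) (pt (k5 i))
  && Nat.blt (k6 i) 136 && Nat.beq (sel subT 6 (pt i)) (pt (k6 i))

theorem restrict_ok : allBelow 8 136 restrictStep = true := by decide +kernel

theorem na_ok : allBelow 8 136 (fun u => Nat.beq (na u) (trace [k3, k2, k5, k1, k0, k6, k0, k4, k5, k2, k3, k6, k5, k4, k5] u)) = true := by decide +kernel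

theorem nb_ok : allBelow 8 136 (fun u => Nat.beq (nb u) (trace [k0, k2, k1, k5, k4, k0, k3, k2, k4, k0, k0, k3, k6, k3, k0, k2, k1, k5, k4, k0, k3, k2, k4, k0, k0, k3, k6, k3, k0, k2, k1, k5, k4, k0, k3, k2, k4, k0, k0, k3, k6, k3, k0, k2, k1, k5, k4, k0, k3, k2, k4, k0, k0, k3, k6, k3, k0, k2, k1, k5, k4, k0, k3, k2, k4, k0, k0, k3, k6, k3, k0, k2, k1, k5, k4, k0, k3, k2, k4, k0, k0, k3, k6, k3] u)) = true := by decide +kernel

theorem na_same : allBelow 8 136 (fun u => Nat.beq (N0g0 u) (na u) && Nat.beq (N0g1 u) (nb u)) = true := by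
  decide +kernel

theorem k_same : allBelow 8 136 (fun u => Nat.beq (K0g0 u) (k0 u) && Nat.beq (K0g1 u) (k1 u) && Nat.beq (K0g2 u) (k2 u) && Nat.beq (K0g3 u) (k3 u) && Nat.beq (K0g4 u) (k4 u) && Nat.beq (K0g5 u) (k5 u) && Nat.beq (K0g6 u) (k6 u)) = true := by
  decide +kernel

theorem act_digits : allBelow 8 256 (fun x => Nat.blt (actA x) 256 && Nat.blt (actB x) 256 &&
    (List.finRange 4).all (fun r => Nat.beq (vdig (actA x) r) (mvDig digA x r)) &&
    (List.finRange 4).all (fun r => Nat.beq (vdig (actB x) r) (mvDig digB x r))) = true := by decide +kernel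

theorem forms_act : allBelow 8 136 (fun i => allBelow 8 256 (fun x =>
    Nat.beq (form (na i) (actA x)) (form i x) && Nat.beq (form (nb i) (actB x)) (form i x))) = true := by
  decide +kernel

theorem forms_distinct : allBelow 8 136 (fun i => allBelow 8 136 (fun j =>
    Nat.beq i j || !Nat.beq (formL0 i) (formL0 j))) = true := by decide +kernel

/-- Signature of a vector: the values of a few forms. -/
noncomputable def sig (x : Nat) : Nat :=
  256 * form 0 x + 64 * form 1 x + 16 * form 2 x + 4 * form 29 x + 1 * form 3 x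

theorem sig_ok : allBelow 8 256 (fun j => Nat.blt (sigSrt j) 256 &&
    (bif Nat.beq j 0 then true else Nat.blt (sig (sigSrt (Nat.sub j 1))) (sig (sigSrt j)))) = true := by decide +kernel

theorem digits_lt : (List.finRange 4).all (fun r => (List.finRange 4).all (fun c =>
    Nat.blt (entry digA r c) 4 && Nat.blt (entry digB r c) 4)) = true := by decide +kernel

/-- `M J Mᵀ = J` on codes, `J` having ones at the places `(r, r ± 2)`. -/
noncomputable def sympCode (M : Nat → Nat) (r c : Fin 4) : Nat :=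
  Nat.xor (Nat.xor (cmul (entry M r 2) (entry M c 0)) (cmul (entry M r 3) (entry M c 1)))
    (Nat.xor (cmul (entry M r 0) (entry M c 2)) (cmul (entry M r 1) (entry M c 3)))

theorem symp_ok : (List.finRange 4).all (fun r => (List.finRange 4).all (fun c =>
    Nat.beq (sympCode digA r c) (if c = r + 2 then 1 else 0) &&
    Nat.beq (sympCode digB r c) (if c = r + 2 then 1 else 0))) = true := by decide +kernel

def word1 : List (Fin 7) := [3, 2, 5, 1, 0, 6, 0, 4, 5, 2, 3, 6, 5, 4, 5]
def word2 : List (Fin 7) := [0, 2, 1, 5, 4, 0, 3, 2, 4, 0, 0, 3, 6, 3, 0, 2, 1, 5, 4, 0, 3, 2, 4, 0, 0, 3, 6, 3, 0, 2, 1, 5, 4, 0, 3, 2, 4, 0, 0, 3, 6, 3, 0, 2, 1, 5, 4, 0, 3, 2, 4, 0, 0, 3, 6, 3, 0, 2, 1, 5, 4, 0, 3, 2, 4, 0, 0, 3, 6, 3, 0, 2, 1, 5, 4, 0, 3, 2, 4, 0, 0, 3, 6, 3]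

end CfsgLib.SporadicB.He
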