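import Cfsg.Agent.Lib.SporadicB.He.Data
import Cfsg.Agent.Lib.SporRecognition.CosetCert.Order

/-! Generated lower bound for the group on 136 points. -/

set_option autoImplicit false
set_option linter.all false
set_option Elab.async false

namespace CfsgLib.SporadicB.He

open CfsgLib.SporRecognition.CosetCert

theorem K0inv0 : allBelow 8 136 (invStep K0g0 K0g7 136) = true := by decide +kernel
theorem K0inv1 : allBelow 8 136 (invStep K0g1 K0g8 136) = true := by decide +kernel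
theorem K0inv2 : allBelow 8 136 (invStep K0g2 K0g9 136) = true := by decide +kernel
theorem K0inv3 : allBelow 8 136 (invStep K0g3 K0g10 136) = true := by decide +kernel
theorem K0inv4 : allBelow 8 136 (invStep K0g4 K0g11 136) = true := by decide +kernel
theorem K0inv5 : allBelow 8 136 (invStep K0g5 K0g12 136) = true := by decide +kernel
theorem K0inv6 : allBelow 8 136 (invStep K0g6 K0g13 136) = true := by decide +kernel
theorem K0reach : allBelow 8 136 (reachStep [K0g0, K0g1, K0g2, K0g3, K0g4, K0g5, K0g6, K0g7, K0g8, K0g9, K0g10, K0g11, K0g12, K0g13] 0 K0mark K0rk K0via K0src 136) = true := by decide +kernel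
theorem K0count : countLab 8 136 K0mark 1 = 136 := by decide +kernel

theorem K1eq0 : allBelow 8 136 (fun u => Nat.beq (K1g0 u) (trace [K0g1, K0g4, K0g2, K0g0, K0g9, K0g11, K0g8] u)) = true := by decide +kernel
theorem K1eq1 : allBelow 8 136 (fun u => Nat.beq (K1g1 u) (trace [K0g1, K0g4, K0g6, K0g3, K0g6, K0g11] u)) = true := by decide +kernel
theorem K1eq2 : allBelow 8 136 (fun u => Nat.beq (K1g2 u) (trace [K0g2, K0g6, K0g3, K0g6, K0g9] u)) = true := by decide +kernel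
theorem K1eq3 : allBelow 8 136 (fun u => Nat.beq (K1g3 u) (trace [K0g1, K0g6, K0g4, K0g13, K0g12, K0g9, K0g11, K0g13, K0g8] u)) = true := by decide +kernel
theorem K1eq4 : allBelow 8 136 (fun u => Nat.beq (K1g4 u) (trace [K0g1, K0g5, K0g6, K0g4, K0g1, K0g11, K0g13, K0g12, K0g8] u)) = true := by decide +kernel
theorem K1inv0 : allBelow 8 136 (invStep K1g0 K1g5 136) = true := by decide +kernel
theorem K1inv1 : allBelow 8 136 (invStep K1g1 K1g6 136) = true := by decide +kernel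
theorem K1inv2 : allBelow 8 136 (invStep K1g2 K1g7 136) = true := by decide +kernel
theorem K1inv3 : allBelow 8 136 (invStep K1g3 K1g8 136) = true := by decide +kernel
theorem K1inv4 : allBelow 8 136 (invStep K1g4 K1g9 136) = true := by decide +kernel
theorem K1reach : allBelow 8 136 (reachStep [K1g0, K1g1, K1g2, K1g3, K1g4, K1g5, K1g6, K1g7, K1g8, K1g9] 1 K1mark K1rk K1via K1src 136) = true := by decide +kernel
theorem K1count : countLab 8 136 K1mark 1 = 60 := by decide +kernel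

theorem K2eq0 : allBelow 8 136 (fun u => Nat.beq (K2g0 u) (trace [K1g2, K1g3, K1g2, K1g3, K1g0, K1g2, K1g9, K1g7, K1g5, K1g8, K1g7, K1g8, K1g7] u)) = true := by decide +kernel
theorem K2eq1 : allBelow 8 136 (fun u => Nat.beq (K2g1 u) (trace [K1g2, K1g3, K1g1, K1g3, K1g4, K1g8, K1g9, K1g8, K1g6, K1g8, K1g7] u)) = true := by decide +kernel
theorem K2eq2 : allBelow 8 136 (fun u => Nat.beq (K2g2 u) (trace [K1g2, K1g1, K1g2, K1g1, K1g0, K1g6, K1g7, K1g6, K1g7] u)) = true := by decide +kernel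
theorem K2eq3 : allBelow 8 136 (fun u => Nat.beq (K2g3 u) (trace [K1g2, K1g3, K1g2, K1g1, K1g3, K1g9, K1g8, K1g6, K1g7, K1g8, K1g7] u)) = true := by decide +kernel
theorem K2eq4 : allBelow 8 136 (fun u => Nat.beq (K2g4 u) (trace [K1g2, K1g3, K1g0, K1g2, K1g3, K1g4, K1g3, K1g6, K1g8, K1g9, K1g8, K1g7, K1g5, K1g8, K1g7] u)) = true := by decide +kernel
theorem K2inv0 : allBelow 8 136 (invStep K2g0 K2g5 136) = true := by decide +kernel
theorem K2inv1 : allBelow 8 136 (invStep K2g1 K2g6 136) = true := by decide +kernel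
theorem K2inv2 : allBelow 8 136 (invStep K2g2 K2g7 136) = true := by decide +kernel
theorem K2inv3 : allBelow 8 136 (invStep K2g3 K2g8 136) = true := by decide +kernel
theorem K2inv4 : allBelow 8 136 (invStep K2g4 K2g9 136) = true := by decide +kernel
theorem K2reach : allBelow 8 136 (reachStep [K2g0, K2g1, K2g2, K2g3, K2g4, K2g5, K2g6, K2g7, K2g8, K2g9] 2 K2mark K2rk K2via K2src 136) = true := by decide +kernel
theorem K2count : countLab 8 136 K2mark 1 = 40 := by decide +kernel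

theorem K3eq0 : allBelow 8 136 (fun u => Nat.beq (K3g0 u) (trace [K2g0, K2g1, K2g4, K2g1, K2g7, K2g5, K2g6, K2g5, K2g6] u)) = true := by decide +kernel
theorem K3eq1 : allBelow 8 136 (fun u => Nat.beq (K3g1 u) (trace [K2g0, K2g1, K2g4, K2g1, K2g4, K2g2, K2g6, K2g7, K2g6, K2g8] u)) = true := by decide +kernel
theorem K3eq2 : allBelow 8 136 (fun u => Nat.beq (K3g2 u) (trace [K2g0, K2g2, K2g0, K2g2, K2g0, K2g7, K2g5, K2g7, K2g5] u)) = true := by decide +kernel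
theorem K3eq3 : allBelow 8 136 (fun u => Nat.beq (K3g3 u) (trace [K2g0, K2g1, K2g0, K2g2, K2g1, K2g7, K2g5, K2g7, K2g5] u)) = true := by decide +kernel
theorem K3eq4 : allBelow 8 136 (fun u => Nat.beq (K3g4 u) (trace [K2g1, K2g0, K2g1, K2g0, K2g1, K2g9, K2g7, K2g5, K2g6, K2g5] u)) = true := by decide +kernel
theorem K3inv0 : allBelow 8 136 (invStep K3g0 K3g5 136) = true := by decide +kernel
theorem K3inv1 : allBelow 8 136 (invStep K3g1 K3g6 136) = true := by decide +kernel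
theorem K3inv2 : allBelow 8 136 (invStep K3g2 K3g7 136) = true := by decide +kernel
theorem K3inv3 : allBelow 8 136 (invStep K3g3 K3g8 136) = true := by decide +kernel
theorem K3inv4 : allBelow 8 136 (invStep K3g4 K3g9 136) = true := by decide +kernel
theorem K3reach : allBelow 8 136 (reachStep [K3g0, K3g1, K3g2, K3g3, K3g4, K3g5, K3g6, K3g7, K3g8, K3g9] 3 K3mark K3rk K3via K3src 136) = true := by decide +kernel
theorem K3count : countLab 8 136 K3mark 1 = 3 := by decide +kernel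

theorem K4eq0 : allBelow 8 136 (fun u => Nat.beq (K4g0 u) (trace [K3g8, K3g5] u)) = true := by decide +kernel
theorem K4inv0 : allBelow 8 136 (invStep K4g0 K4g1 136) = true := by decide +kernel
theorem K4reach : allBelow 8 136 (reachStep [K4g0, K4g1] 5 K4mark K4rk K4via K4src 136) = true := by decide +kernel
theorem K4count : countLab 8 136 K4mark 1 = 2 := by decide +kernel

theorem Klower (Q : Subgroup (Equiv.Perm (Fin 136))) (h0 : Realised Q K0g0) (h1 : Realised Q K0g1) (h2 : Realised Q K0g2) (h3 : Realised Q K0g3) (h4 : Realised Q K0g4) (h5 : Realised Q K0g5) (h6 : Realised Q K0g6) : 1958400 ≤ Nat.card Q := by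
  have q0_0 : Realised (ptsStab Q ([] : List (Fin 136))) K0g0 := Realised.mono (ptsStab_nil Q).ge h0
  have q0_7 : Realised (ptsStab Q ([] : List (Fin 136))) K0g7 := Realised.inv q0_0 K0inv0
  have q0_1 : Realised (ptsStab Q ([] : List (Fin 136))) K0g1 := Realised.mono (ptsStab_nil Q).ge h1
  have q0_8 : Realised (ptsStab Q ([] : List (Fin 136))) K0g8 := Realised.inv q0_1 K0inv1
  have q0_2 : Realised (ptsStab Q ([] : List (Fin 136))) K0g2 := Realised.mono (ptsStab_nil Q).ge h2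
  have q0_9 : Realised (ptsStab Q ([] : List (Fin 136))) K0g9 := Realised.inv q0_2 K0inv2
  have q0_3 : Realised (ptsStab Q ([] : List (Fin 136))) K0g3 := Realised.mono (ptsStab_nil Q).ge h3
  have q0_10 : Realised (ptsStab Q ([] : List (Fin 136))) K0g10 := Realised.inv q0_3 K0inv3
  have q0_4 : Realised (ptsStab Q ([] : List (Fin 136))) K0g4 := Realised.mono (ptsStab_nil Q).ge h4
  have q0_11 : Realised (ptsStab Q ([] : List (Fin 136))) K0g11 := Realised.inv q0_4 K0inv4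
  have q0_5 : Realised (ptsStab Q ([] : List (Fin 136))) K0g5 := Realised.mono (ptsStab_nil Q).ge h5
  have q0_12 : Realised (ptsStab Q ([] : List (Fin 136))) K0g12 := Realised.inv q0_5 K0inv5
  have q0_6 : Realised (ptsStab Q ([] : List (Fin 136))) K0g6 := Realised.mono (ptsStab_nil Q).ge h6
  have q0_13 : Realised (ptsStab Q ([] : List (Fin 136))) K0g13 := Realised.inv q0_6 K0inv6
  have R0 : ∀ t ∈ [K0g0, K0g1, K0g2, K0g3, K0g4, K0g5, K0g6, K0g7, K0g8, K0g9, K0g10, K0g11, K0g12, K0g13], Realised (ptsStab Q ([] : List (Fin 136))) t :=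
    List.forall_mem_cons.mpr ⟨q0_0, List.forall_mem_cons.mpr ⟨q0_1, List.forall_mem_cons.mpr ⟨q0_2, List.forall_mem_cons.mpr ⟨q0_3, List.forall_mem_cons.mpr ⟨q0_4, List.forall_mem_cons.mpr ⟨q0_5, List.forall_mem_cons.mpr ⟨q0_6, List.forall_mem_cons.mpr ⟨q0_7, List.forall_mem_cons.mpr ⟨q0_8, List.forall_mem_cons.mpr ⟨q0_9, List.forall_mem_cons.mpr ⟨q0_10, List.forall_mem_cons.mpr ⟨q0_11, List.forall_mem_cons.mpr ⟨q0_12, List.forall_mem_cons.mpr ⟨q0_13, (fun _ h => absurd h List.not_mem_nil)⟩⟩⟩⟩⟩⟩⟩⟩⟩⟩⟩⟩⟩⟩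
  have q1_0 : Realised (ptsStab Q ([⟨0, by decide⟩] : List (Fin 136))) K1g0 :=
    realised_new (prev := ([] : List (Fin 136))) (ts := [K0g1, K0g4, K0g2, K0g0, K0g9, K0g11, K0g8])
      (List.forall_mem_cons.mpr ⟨q0_1, (List.forall_mem_cons.mpr ⟨q0_4, (List.forall_mem_cons.mpr ⟨q0_2, (List.forall_mem_cons.mpr ⟨q0_0, (List.forall_mem_cons.mpr ⟨q0_9, (List.forall_mem_cons.mpr ⟨q0_11, (List.forall_mem_cons.mpr ⟨q0_8, (fun _ h => absurd h List.not_mem_nil)⟩)⟩)⟩)⟩)⟩)⟩)⟩) K1eq0 (by decide +kernel)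
  have q1_5 : Realised (ptsStab Q ([⟨0, by decide⟩] : List (Fin 136))) K1g5 := Realised.inv q1_0 K1inv0
  have q1_1 : Realised (ptsStab Q ([⟨0, by decide⟩] : List (Fin 136))) K1g1 :=
    realised_new (prev := ([] : List (Fin 136))) (ts := [K0g1, K0g4, K0g6, K0g3, K0g6, K0g11])
      (List.forall_mem_cons.mpr ⟨q0_1, (List.forall_mem_cons.mpr ⟨q0_4, (List.forall_mem_cons.mpr ⟨q0_6, (List.forall_mem_cons.mpr ⟨q0_3, (List.forall_mem_cons.mpr ⟨q0_6, (List.forall_mem_cons.mpr ⟨q0_11, (fun _ h => absurd h List.not_mem_nil)⟩)⟩)⟩)⟩)⟩)⟩) K1eq1 (by decide +kernel)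
  have q1_6 : Realised (ptsStab Q ([⟨0, by decide⟩] : List (Fin 136))) K1g6 := Realised.inv q1_1 K1inv1
  have q1_2 : Realised (ptsStab Q ([⟨0, by decide⟩] : List (Fin 136))) K1g2 :=
    realised_new (prev := ([] : List (Fin 136))) (ts := [K0g2, K0g6, K0g3, K0g6, K0g9])
      (List.forall_mem_cons.mpr ⟨q0_2, (List.forall_mem_cons.mpr ⟨q0_6, (List.forall_mem_cons.mpr ⟨q0_3, (List.forall_mem_cons.mpr ⟨q0_6, (List.forall_mem_cons.mpr ⟨q0_9, (fun _ h => absurd h List.not_mem_nil)⟩)⟩)⟩)⟩)⟩) K1eq2 (by decide +kernel)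
  have q1_7 : Realised (ptsStab Q ([⟨0, by decide⟩] : List (Fin 136))) K1g7 := Realised.inv q1_2 K1inv2
  have q1_3 : Realised (ptsStab Q ([⟨0, by decide⟩] : List (Fin 136))) K1g3 :=
    realised_new (prev := ([] : List (Fin 136))) (ts := [K0g1, K0g6, K0g4, K0g13, K0g12, K0g9, K0g11, K0g13, K0g8])
      (List.forall_mem_cons.mpr ⟨q0_1, (List.forall_mem_cons.mpr ⟨q0_6, (List.forall_mem_cons.mpr ⟨q0_4, (List.forall_mem_cons.mpr ⟨q0_13, (List.forall_mem_cons.mpr ⟨q0_12, (List.forall_mem_cons.mpr ⟨q0_9, (List.forall_mem_cons.mpr ⟨q0_11, (List.forall_mem_cons.mpr ⟨q0_13, (List.forall_mem_cons.mpr ⟨q0_8, (fun _ h => absurd h List.not_mem_nil)⟩)⟩)⟩)⟩)⟩)⟩)⟩)⟩)⟩) K1eq3 (by decide +kernel)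
  have q1_8 : Realised (ptsStab Q ([⟨0, by decide⟩] : List (Fin 136))) K1g8 := Realised.inv q1_3 K1inv3
  have q1_4 : Realised (ptsStab Q ([⟨0, by decide⟩] : List (Fin 136))) K1g4 :=
    realised_new (prev := ([] : List (Fin 136))) (ts := [K0g1, K0g5, K0g6, K0g4, K0g1, K0g11, K0g13, K0g12, K0g8])
      (List.forall_mem_cons.mpr ⟨q0_1, (List.forall_mem_cons.mpr ⟨q0_5, (List.forall_mem_cons.mpr ⟨q0_6, (List.forall_mem_cons.mpr ⟨q0_4, (List.forall_mem_cons.mpr ⟨q0_1, (List.forall_mem_cons.mpr ⟨q0_11, (List.forall_mem_cons.mpr ⟨q0_13, (List.forall_mem_cons.mpr ⟨q0_12, (List.forall_mem_cons.mpr ⟨q0_8, (fun _ h => absurd h List.not_mem_nil)⟩)⟩)⟩)⟩)⟩)⟩)⟩)⟩)⟩) K1eq4 (by decide +kernel)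
  have q1_9 : Realised (ptsStab Q ([⟨0, by decide⟩] : List (Fin 136))) K1g9 := Realised.inv q1_4 K1inv4
  have R1 : ∀ t ∈ [K1g0, K1g1, K1g2, K1g3, K1g4, K1g5, K1g6, K1g7, K1g8, K1g9], Realised (ptsStab Q ([⟨0, by decide⟩] : List (Fin 136))) t :=
    List.forall_mem_cons.mpr ⟨q1_0, List.forall_mem_cons.mpr ⟨q1_1, List.forall_mem_cons.mpr ⟨q1_2, List.forall_mem_cons.mpr ⟨q1_3, List.forall_mem_cons.mpr ⟨q1_4, List.forall_mem_cons.mpr ⟨q1_5, List.forall_mem_cons.mpr ⟨q1_6, List.forall_mem_cons.mpr ⟨q1_7, List.forall_mem_cons.mpr ⟨q1_8, List.forall_mem_cons.mpr ⟨q1_9, (fun _ h => absurd h List.not_mem_nil)⟩⟩⟩⟩⟩⟩⟩⟩⟩⟩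
  have q2_0 : Realised (ptsStab Q ([⟨0, by decide⟩, ⟨1, by decide⟩] : List (Fin 136))) K2g0 :=
    realised_new (prev := ([⟨0, by decide⟩] : List (Fin 136))) (ts := [K1g2, K1g3, K1g2, K1g3, K1g0, K1g2, K1g9, K1g7, K1g5, K1g8, K1g7, K1g8, K1g7])
      (List.forall_mem_cons.mpr ⟨q1_2, (List.forall_mem_cons.mpr ⟨q1_3, (List.forall_mem_cons.mpr ⟨q1_2, (List.forall_mem_cons.mpr ⟨q1_3, (List.forall_mem_cons.mpr ⟨q1_0, (List.forall_mem_cons.mpr ⟨q1_2, (List.forall_mem_cons.mpr ⟨q1_9, (List.forall_mem_cons.mpr ⟨q1_7, (List.forall_mem_cons.mpr ⟨q1_5, (List.forall_mem_cons.mpr ⟨q1_8, (List.forall_mem_cons.mpr ⟨q1_7, (List.forall_mem_cons.mpr ⟨q1_8, (List.forall_mem_cons.mpr ⟨q1_7, (fun _ h => absurd h List.not_mem_nil)⟩)⟩)⟩)⟩)⟩)⟩)⟩)⟩)⟩)⟩)⟩)⟩)⟩) K2eq0 (by decide +kernel)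
  have q2_5 : Realised (ptsStab Q ([⟨0, by decide⟩, ⟨1, by decide⟩] : List (Fin 136))) K2g5 := Realised.inv q2_0 K2inv0
  have q2_1 : Realised (ptsStab Q ([⟨0, by decide⟩, ⟨1, by decide⟩] : List (Fin 136))) K2g1 :=
    realised_new (prev := ([⟨0, by decide⟩] : List (Fin 136))) (ts := [K1g2, K1g3, K1g1, K1g3, K1g4, K1g8, K1g9, K1g8, K1g6, K1g8, K1g7])
      (List.forall_mem_cons.mpr ⟨q1_2, (List.forall_mem_cons.mpr ⟨q1_3, (List.forall_mem_cons.mpr ⟨q1_1, (List.forall_mem_cons.mpr ⟨q1_3, (List.forall_mem_cons.mpr ⟨q1_4, (List.forall_mem_cons.mpr ⟨q1_8, (List.forall_mem_cons.mpr ⟨q1_9, (List.forall_mem_cons.mpr ⟨q1_8, (List.forall_mem_cons.mpr ⟨q1_6, (List.forall_mem_cons.mpr ⟨q1_8, (List.forall_mem_cons.mpr ⟨q1_7, (fun _ h => absurd h List.not_mem_nil)⟩)⟩)⟩)⟩)⟩)⟩)⟩)⟩)⟩)⟩)⟩) K2eq1 (by decide +kernel)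
  have q2_6 : Realised (ptsStab Q ([⟨0, by decide⟩, ⟨1, by decide⟩] : List (Fin 136))) K2g6 := Realised.inv q2_1 K2inv1
  have q2_2 : Realised (ptsStab Q ([⟨0, by decide⟩, ⟨1, by decide⟩] : List (Fin 136))) K2g2 :=
    realised_new (prev := ([⟨0, by decide⟩] : List (Fin 136))) (ts := [K1g2, K1g1, K1g2, K1g1, K1g0, K1g6, K1g7, K1g6, K1g7])
      (List.forall_mem_cons.mpr ⟨q1_2, (List.forall_mem_cons.mpr ⟨q1_1, (List.forall_mem_cons.mpr ⟨q1_2, (List.forall_mem_cons.mpr ⟨q1_1, (List.forall_mem_cons.mpr ⟨q1_0, (List.forall_mem_cons.mpr ⟨q1_6, (List.forall_mem_cons.mpr ⟨q1_7, (List.forall_mem_cons.mpr ⟨q1_6, (List.forall_mem_cons.mpr ⟨q1_7, (fun _ h => absurd h List.not_mem_nil)⟩)⟩)⟩)⟩)⟩)⟩)⟩)⟩)⟩) K2eq2 (by decide +kernel)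
  have q2_7 : Realised (ptsStab Q ([⟨0, by decide⟩, ⟨1, by decide⟩] : List (Fin 136))) K2g7 := Realised.inv q2_2 K2inv2
  have q2_3 : Realised (ptsStab Q ([⟨0, by decide⟩, ⟨1, by decide⟩] : List (Fin 136))) K2g3 :=
    realised_new (prev := ([⟨0, by decide⟩] : List (Fin 136))) (ts := [K1g2, K1g3, K1g2, K1g1, K1g3, K1g9, K1g8, K1g6, K1g7, K1g8, K1g7])
      (List.forall_mem_cons.mpr ⟨q1_2, (List.forall_mem_cons.mpr ⟨q1_3, (List.forall_mem_cons.mpr ⟨q1_2, (List.forall_mem_cons.mpr ⟨q1_1, (List.forall_mem_cons.mpr ⟨q1_3, (List.forall_mem_cons.mpr ⟨q1_9, (List.forall_mem_cons.mpr ⟨q1_8, (List.forall_mem_cons.mpr ⟨q1_6, (List.forall_mem_cons.mpr ⟨q1_7, (List.forall_mem_cons.mpr ⟨q1_8, (List.forall_mem_cons.mpr ⟨q1_7, (fun _ h => absurd h List.not_mem_nil)⟩)⟩)⟩)⟩)⟩)⟩)⟩)⟩)⟩)⟩)⟩) K2eq3 (by decide +kernel)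
  have q2_8 : Realised (ptsStab Q ([⟨0, by decide⟩, ⟨1, by decide⟩] : List (Fin 136))) K2g8 := Realised.inv q2_3 K2inv3
  have q2_4 : Realised (ptsStab Q ([⟨0, by decide⟩, ⟨1, by decide⟩] : List (Fin 136))) K2g4 :=
    realised_new (prev := ([⟨0, by decide⟩] : List (Fin 136))) (ts := [K1g2, K1g3, K1g0, K1g2, K1g3, K1g4, K1g3, K1g6, K1g8, K1g9, K1g8, K1g7, K1g5, K1g8, K1g7])
      (List.forall_mem_cons.mpr ⟨q1_2, (List.forall_mem_cons.mpr ⟨q1_3, (List.forall_mem_cons.mpr ⟨q1_0, (List.forall_mem_cons.mpr ⟨q1_2, (List.forall_mem_cons.mpr ⟨q1_3, (List.forall_mem_cons.mpr ⟨q1_4, (List.forall_mem_cons.mpr ⟨q1_3, (List.forall_mem_cons.mpr ⟨q1_6, (List.forall_mem_cons.mpr ⟨q1_8, (List.forall_mem_cons.mpr ⟨q1_9, (List.forall_mem_cons.mpr ⟨q1_8, (List.forall_mem_cons.mpr ⟨q1_7, (List.forall_mem_cons.mpr ⟨q1_5, (List.forall_mem_cons.mpr ⟨q1_8, (List.forall_mem_cons.mpr ⟨q1_7, (fun _ h =>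 absurd h List.not_mem_nil)⟩)⟩)⟩)⟩)⟩)⟩)⟩)⟩)⟩)⟩)⟩)⟩)⟩)⟩)⟩) K2eq4 (by decide +kernel)
  have q2_9 : Realised (ptsStab Q ([⟨0, by decide⟩, ⟨1, by decide⟩] : List (Fin 136))) K2g9 := Realised.inv q2_4 K2inv4
  have R2 : ∀ t ∈ [K2g0, K2g1, K2g2, K2g3, K2g4, K2g5, K2g6, K2g7, K2g8, K2g9], Realised (ptsStab Q ([⟨0, by decide⟩, ⟨1, by decide⟩] : List (Fin 136))) t :=
    List.forall_mem_cons.mpr ⟨q2_0, List.forall_mem_cons.mpr ⟨q2_1, List.forall_mem_cons.mpr ⟨q2_2, List.forall_mem_cons.mpr ⟨q2_3, List.forall_mem_cons.mpr ⟨q2_4, List.forall_mem_cons.mpr ⟨q2_5, List.forall_mem_cons.mpr ⟨q2_6, List.forall_mem_cons.mpr ⟨q2_7, List.forall_mem_cons.mpr ⟨q2_8, List.forall_mem_cons.mpr ⟨q2_9, (fun _ h => absurd h List.not_mem_nil)⟩⟩⟩⟩⟩⟩⟩⟩⟩⟩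
  have q3_0 : Realised (ptsStab Q ([⟨0, by decide⟩, ⟨1, by decide⟩, ⟨2, by decide⟩] : List (Fin 136))) K3g0 :=
    realised_new (prev := ([⟨0, by decide⟩, ⟨1, by decide⟩] : List (Fin 136))) (ts := [K2g0, K2g1, K2g4, K2g1, K2g7, K2g5, K2g6, K2g5, K2g6])
      (List.forall_mem_cons.mpr ⟨q2_0, (List.forall_mem_cons.mpr ⟨q2_1, (List.forall_mem_cons.mpr ⟨q2_4, (List.forall_mem_cons.mpr ⟨q2_1, (List.forall_mem_cons.mpr ⟨q2_7, (List.forall_mem_cons.mpr ⟨q2_5, (List.forall_mem_cons.mpr ⟨q2_6, (List.forall_mem_cons.mpr ⟨q2_5, (List.forall_mem_cons.mpr ⟨q2_6, (fun _ h => absurd h List.not_mem_nil)⟩)⟩)⟩)⟩)⟩)⟩)⟩)⟩)⟩) K3eq0 (by decide +kernel)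
  have q3_5 : Realised (ptsStab Q ([⟨0, by decide⟩, ⟨1, by decide⟩, ⟨2, by decide⟩] : List (Fin 136))) K3g5 := Realised.inv q3_0 K3inv0
  have q3_1 : Realised (ptsStab Q ([⟨0, by decide⟩, ⟨1, by decide⟩, ⟨2, by decide⟩] : List (Fin 136))) K3g1 :=
    realised_new (prev := ([⟨0, by decide⟩, ⟨1, by decide⟩] : List (Fin 136))) (ts := [K2g0, K2g1, K2g4, K2g1, K2g4, K2g2, K2g6, K2g7, K2g6, K2g8])
      (List.forall_mem_cons.mpr ⟨q2_0, (List.forall_mem_cons.mpr ⟨q2_1, (List.forall_mem_cons.mpr ⟨q2_4, (List.forall_mem_cons.mpr ⟨q2_1, (List.forall_mem_cons.mpr ⟨q2_4, (List.forall_mem_cons.mpr ⟨q2_2, (List.forall_mem_cons.mpr ⟨q2_6, (List.forall_mem_cons.mpr ⟨q2_7, (List.forall_mem_cons.mpr ⟨q2_6, (List.forall_mem_cons.mpr ⟨q2_8, (fun _ h => absurd h List.not_mem_nil)⟩)⟩)⟩)⟩)⟩)⟩)⟩)⟩)⟩)⟩) K3eq1 (by decide +kernel)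
  have q3_6 : Realised (ptsStab Q ([⟨0, by decide⟩, ⟨1, by decide⟩, ⟨2, by decide⟩] : List (Fin 136))) K3g6 := Realised.inv q3_1 K3inv1
  have q3_2 : Realised (ptsStab Q ([⟨0, by decide⟩, ⟨1, by decide⟩, ⟨2, by decide⟩] : List (Fin 136))) K3g2 :=
    realised_new (prev := ([⟨0, by decide⟩, ⟨1, by decide⟩] : List (Fin 136))) (ts := [K2g0, K2g2, K2g0, K2g2, K2g0, K2g7, K2g5, K2g7, K2g5])
      (List.forall_mem_cons.mpr ⟨q2_0, (List.forall_mem_cons.mpr ⟨q2_2, (List.forall_mem_cons.mpr ⟨q2_0, (List.forall_mem_cons.mpr ⟨q2_2, (List.forall_mem_cons.mpr ⟨q2_0, (List.forall_mem_cons.mpr ⟨q2_7, (List.forall_mem_cons.mpr ⟨q2_5, (List.forall_mem_cons.mpr ⟨q2_7, (List.forall_mem_cons.mpr ⟨q2_5, (fun _ h => absurd h List.not_mem_nil)⟩)⟩)⟩)⟩)⟩)⟩)⟩)⟩)⟩) K3eq2 (by decide +kernel)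
  have q3_7 : Realised (ptsStab Q ([⟨0, by decide⟩, ⟨1, by decide⟩, ⟨2, by decide⟩] : List (Fin 136))) K3g7 := Realised.inv q3_2 K3inv2
  have q3_3 : Realised (ptsStab Q ([⟨0, by decide⟩, ⟨1, by decide⟩, ⟨2, by decide⟩] : List (Fin 136))) K3g3 :=
    realised_new (prev := ([⟨0, by decide⟩, ⟨1, by decide⟩] : List (Fin 136))) (ts := [K2g0, K2g1, K2g0, K2g2, K2g1, K2g7, K2g5, K2g7, K2g5])
      (List.forall_mem_cons.mpr ⟨q2_0, (List.forall_mem_cons.mpr ⟨q2_1, (List.forall_mem_cons.mpr ⟨q2_0, (List.forall_mem_cons.mpr ⟨q2_2, (List.forall_mem_cons.mpr ⟨q2_1, (List.forall_mem_cons.mpr ⟨q2_7, (List.forall_mem_cons.mpr ⟨q2_5, (List.forall_mem_cons.mpr ⟨q2_7, (List.forall_mem_cons.mpr ⟨q2_5, (fun _ h => absurd h List.not_mem_nil)⟩)⟩)⟩)⟩)⟩)⟩)⟩)⟩)⟩) K3eq3 (by decide +kernel)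
  have q3_8 : Realised (ptsStab Q ([⟨0, by decide⟩, ⟨1, by decide⟩, ⟨2, by decide⟩] : List (Fin 136))) K3g8 := Realised.inv q3_3 K3inv3
  have q3_4 : Realised (ptsStab Q ([⟨0, by decide⟩, ⟨1, by decide⟩, ⟨2, by decide⟩] : List (Fin 136))) K3g4 :=
    realised_new (prev := ([⟨0, by decide⟩, ⟨1, by decide⟩] : List (Fin 136))) (ts := [K2g1, K2g0, K2g1, K2g0, K2g1, K2g9, K2g7, K2g5, K2g6, K2g5])
      (List.forall_mem_cons.mpr ⟨q2_1, (List.forall_mem_cons.mpr ⟨q2_0, (List.forall_mem_cons.mpr ⟨q2_1, (List.forall_mem_cons.mpr ⟨q2_0, (List.forall_mem_cons.mpr ⟨q2_1, (List.forall_mem_cons.mpr ⟨q2_9, (List.forall_mem_cons.mpr ⟨q2_7, (List.forall_mem_cons.mpr ⟨q2_5, (List.forall_mem_cons.mpr ⟨q2_6, (List.forall_mem_cons.mpr ⟨q2_5, (fun _ h => absurd h List.not_mem_nil)⟩)⟩)⟩)⟩)⟩)⟩)⟩)⟩)⟩)⟩) K3eq4 (by decide +kernel)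
  have q3_9 : Realised (ptsStab Q ([⟨0, by decide⟩, ⟨1, by decide⟩, ⟨2, by decide⟩] : List (Fin 136))) K3g9 := Realised.inv q3_4 K3inv4
  have R3 : ∀ t ∈ [K3g0, K3g1, K3g2, K3g3, K3g4, K3g5, K3g6, K3g7, K3g8, K3g9], Realised (ptsStab Q ([⟨0, by decide⟩, ⟨1, by decide⟩, ⟨2, by decide⟩] : List (Fin 136))) t :=
    List.forall_mem_cons.mpr ⟨q3_0, List.forall_mem_cons.mpr ⟨q3_1, List.forall_mem_cons.mpr ⟨q3_2, List.forall_mem_cons.mpr ⟨q3_3, List.forall_mem_cons.mpr ⟨q3_4, List.forall_mem_cons.mpr ⟨q3_5, List.forall_mem_cons.mpr ⟨q3_6, List.forall_mem_cons.mpr ⟨q3_7, List.forall_mem_cons.mpr ⟨q3_8, List.forall_mem_cons.mpr ⟨q3_9, (fun _ h => absurd h List.not_mem_nil)⟩⟩⟩⟩⟩⟩⟩⟩⟩⟩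
  have q4_0 : Realised (ptsStab Q ([⟨0, by decide⟩, ⟨1, by decide⟩, ⟨2, by decide⟩, ⟨3, by decide⟩] : List (Fin 136))) K4g0 :=
    realised_new (prev := ([⟨0, by decide⟩, ⟨1, by decide⟩, ⟨2, by decide⟩] : List (Fin 136))) (ts := [K3g8, K3g5])
      (List.forall_mem_cons.mpr ⟨q3_8, (List.forall_mem_cons.mpr ⟨q3_5, (fun _ h => absurd h List.not_mem_nil)⟩)⟩) K4eq0 (by decide +kernel)
  have q4_1 : Realised (ptsStab Q ([⟨0, by decide⟩, ⟨1, by decide⟩, ⟨2, by decide⟩, ⟨3, by decide⟩] : List (Fin 136))) K4g1 := Realised.inv q4_0 K4inv0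
  have R4 : ∀ t ∈ [K4g0, K4g1], Realised (ptsStab Q ([⟨0, by decide⟩, ⟨1, by decide⟩, ⟨2, by decide⟩, ⟨3, by decide⟩] : List (Fin 136))) t :=
    List.forall_mem_cons.mpr ⟨q4_0, List.forall_mem_cons.mpr ⟨q4_1, (fun _ h => absurd h List.not_mem_nil)⟩⟩
  have c5 : 1 ≤ Nat.card (ptsStab Q ([⟨0, by decide⟩, ⟨1, by decide⟩, ⟨2, by decide⟩, ⟨3, by decide⟩, ⟨5, by decide⟩] : List (Fin 136))) := one_le_card_ptsStab _ _
  have c4 : 2 ≤ Nat.card (ptsStab Q ([⟨0, by decide⟩, ⟨1, by decide⟩, ⟨2, by decide⟩, ⟨3, by decide⟩] : List (Fin 136))) := by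
    have h := card_ptsStab_ge ([⟨0, by decide⟩, ⟨1, by decide⟩, ⟨2, by decide⟩, ⟨3, by decide⟩] : List (Fin 136)) (⟨5, by decide⟩ : Fin 136) _ R4 K4mark K4rk K4via K4src
      K4reach K4count c5
    exact h
  have c3 : 6 ≤ Nat.card (ptsStab Q ([⟨0, by decide⟩, ⟨1, by decide⟩, ⟨2, by decide⟩] : List (Fin 136))) := by
    have h := card_ptsStab_ge ([⟨0, by decide⟩, ⟨1, by decide⟩, ⟨2, by decide⟩] : List (Fin 136)) (⟨3, by decide⟩ : Fin 136) _ R3 K3mark K3rk K3via K3src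
      K3reach K3count c4
    exact h
  have c2 : 240 ≤ Nat.card (ptsStab Q ([⟨0, by decide⟩, ⟨1, by decide⟩] : List (Fin 136))) := by
    have h := card_ptsStab_ge ([⟨0, by decide⟩, ⟨1, by decide⟩] : List (Fin 136)) (⟨2, by decide⟩ : Fin 136) _ R2 K2mark K2rk K2via K2src
      K2reach K2count c3
    exact h
  have c1 : 14400 ≤ Nat.card (ptsStab Q ([⟨0, by decide⟩] : List (Fin 136))) := by
    have h := card_ptsStab_ge ([⟨0, by decide⟩] : List (Fin 136)) (⟨1, by decide⟩ : Fin 136) _ R1 K1mark K1rk K1via K1src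
      K1reach K1count c2
    exact h
  have c0 : 1958400 ≤ Nat.card (ptsStab Q ([] : List (Fin 136))) := by
    have h := card_ptsStab_ge ([] : List (Fin 136)) (⟨0, by decide⟩ : Fin 136) _ R0 K0mark K0rk K0via K0src
      K0reach K0count c1
    exact h
  rw [ptsStab_nil] at c0
  exact c0

end CfsgLib.SporadicB.He
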