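import Cfsg.Agent.Lib.SporadicB.He.Data
import Cfsg.Agent.Lib.SporRecognition.CosetCert.Order

/-! Generated lower bound for the group on 136 points. -/

set_option autoImplicit false
set_option linter.all false
set_option Elab.async false

namespace CfsgLib.SporadicB.He

open CfsgLib.SporRecognition.CosetCert

theorem N0inv0 : allBelow 8 136 (invStep N0g0 N0g2 136) = true := by decide +kernel
theorem N0inv1 : allBelow 8 136 (invStep N0g1 N0g3 136) = true := by decide +kernel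
theorem N0reach : allBelow 8 136 (reachStep [N0g0, N0g1, N0g2, N0g3] 0 N0mark N0rk N0via N0src 136) = true := by decide +kernel
theorem N0count : countLab 8 136 N0mark 1 = 136 := by decide +kernel

theorem N1eq0 : allBelow 8 136 (fun u => Nat.beq (N1g0 u) (trace [N0g2, N0g1, N0g0, N0g1, N0g2, N0g3, N0g0] u)) = true := by decide +kernel
theorem N1eq1 : allBelow 8 136 (fun u => Nat.beq (N1g1 u) (trace [N0g0, N0g0, N0g1, N0g2, N0g2, N0g3, N0g0, N0g3, N0g2, N0g2, N0g2, N0g2] u)) = true := by decide +kernel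
theorem N1eq2 : allBelow 8 136 (fun u => Nat.beq (N1g2 u) (trace [N0g0, N0g1, N0g0, N0g1, N0g2, N0g3, N0g0, N0g3, N0g2, N0g3, N0g2] u)) = true := by decide +kernel
theorem N1inv0 : allBelow 8 136 (invStep N1g0 N1g3 136) = true := by decide +kernel
theorem N1inv1 : allBelow 8 136 (invStep N1g1 N1g4 136) = true := by decide +kernel
theorem N1inv2 : allBelow 8 136 (invStep N1g2 N1g5 136) = true := by decide +kernel
theorem N1reach : allBelow 8 136 (reachStep [N1g0, N1g1, N1g2, N1g3, N1g4, N1g5] 1 N1mark N1rk N1via N1src 136) = true := by decide +kernel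
theorem N1count : countLab 8 136 N1mark 1 = 60 := by decide +kernel

theorem N2eq0 : allBelow 8 136 (fun u => Nat.beq (N2g0 u) (trace [N1g0, N1g4, N1g2, N1g1, N1g5, N1g3] u)) = true := by decide +kernel
theorem N2eq1 : allBelow 8 136 (fun u => Nat.beq (N2g1 u) (trace [N1g1, N1g2, N1g4, N1g2, N1g1, N1g5] u)) = true := by decide +kernel
theorem N2eq2 : allBelow 8 136 (fun u => Nat.beq (N2g2 u) (trace [N1g2, N1g4, N1g4, N1g5, N1g3, N1g4, N1g3] u)) = true := by decide +kernel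
theorem N2inv0 : allBelow 8 136 (invStep N2g0 N2g3 136) = true := by decide +kernel
theorem N2inv1 : allBelow 8 136 (invStep N2g1 N2g4 136) = true := by decide +kernel
theorem N2inv2 : allBelow 8 136 (invStep N2g2 N2g5 136) = true := by decide +kernel
theorem N2reach : allBelow 8 136 (reachStep [N2g0, N2g1, N2g2, N2g3, N2g4, N2g5] 2 N2mark N2rk N2via N2src 136) = true := by decide +kernel
theorem N2count : countLab 8 136 N2mark 1 = 20 := by decide +kernel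

theorem N3eq0 : allBelow 8 136 (fun u => Nat.beq (N3g0 u) (trace [N2g0, N2g2, N2g1, N2g1, N2g2, N2g4, N2g3] u)) = true := by decide +kernel
theorem N3eq1 : allBelow 8 136 (fun u => Nat.beq (N3g1 u) (trace [N2g0, N2g1, N2g2, N2g3, N2g4] u)) = true := by decide +kernel
theorem N3eq2 : allBelow 8 136 (fun u => Nat.beq (N3g2 u) (trace [N2g0, N2g4, N2g4, N2g3, N2g4] u)) = true := by decide +kernel
theorem N3inv0 : allBelow 8 136 (invStep N3g0 N3g3 136) = true := by decide +kernel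
theorem N3inv1 : allBelow 8 136 (invStep N3g1 N3g4 136) = true := by decide +kernel
theorem N3inv2 : allBelow 8 136 (invStep N3g2 N3g5 136) = true := by decide +kernel
theorem N3reach : allBelow 8 136 (reachStep [N3g0, N3g1, N3g2, N3g3, N3g4, N3g5] 3 N3mark N3rk N3via N3src 136) = true := by decide +kernel
theorem N3count : countLab 8 136 N3mark 1 = 3 := by decide +kernel

theorem N4eq0 : allBelow 8 136 (fun u => Nat.beq (N4g0 u) (trace [N3g2, N3g4, N3g3] u)) = true := by decide +kernel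
theorem N4inv0 : allBelow 8 136 (invStep N4g0 N4g1 136) = true := by decide +kernel
theorem N4reach : allBelow 8 136 (reachStep [N4g0, N4g1] 5 N4mark N4rk N4via N4src 136) = true := by decide +kernel
theorem N4count : countLab 8 136 N4mark 1 = 2 := by decide +kernel

theorem Nlower (Q : Subgroup (Equiv.Perm (Fin 136))) (h0 : Realised Q N0g0) (h1 : Realised Q N0g1) : 979200 ≤ Nat.card Q := by
  have q0_0 : Realised (ptsStab Q ([] : List (Fin 136))) N0g0 := Realised.mono (ptsStab_nil Q).ge h0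
  have q0_2 : Realised (ptsStab Q ([] : List (Fin 136))) N0g2 := Realised.inv q0_0 N0inv0
  have q0_1 : Realised (ptsStab Q ([] : List (Fin 136))) N0g1 := Realised.mono (ptsStab_nil Q).ge h1
  have q0_3 : Realised (ptsStab Q ([] : List (Fin 136))) N0g3 := Realised.inv q0_1 N0inv1
  have R0 : ∀ t ∈ [N0g0, N0g1, N0g2, N0g3], Realised (ptsStab Q ([] : List (Fin 136))) t :=
    List.forall_mem_cons.mpr ⟨q0_0, List.forall_mem_cons.mpr ⟨q0_1, List.forall_mem_cons.mpr ⟨q0_2, List.forall_mem_cons.mpr ⟨q0_3, (fun _ h => absurd h List.not_mem_nil)⟩⟩⟩⟩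
  have q1_0 : Realised (ptsStab Q ([⟨0, by decide⟩] : List (Fin 136))) N1g0 :=
    realised_new (prev := ([] : List (Fin 136))) (ts := [N0g2, N0g1, N0g0, N0g1, N0g2, N0g3, N0g0])
      (List.forall_mem_cons.mpr ⟨q0_2, (List.forall_mem_cons.mpr ⟨q0_1, (List.forall_mem_cons.mpr ⟨q0_0, (List.forall_mem_cons.mpr ⟨q0_1, (List.forall_mem_cons.mpr ⟨q0_2, (List.forall_mem_cons.mpr ⟨q0_3, (List.forall_mem_cons.mpr ⟨q0_0, (fun _ h => absurd h List.not_mem_nil)⟩)⟩)⟩)⟩)⟩)⟩)⟩) N1eq0 (by decide +kernel)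
  have q1_3 : Realised (ptsStab Q ([⟨0, by decide⟩] : List (Fin 136))) N1g3 := Realised.inv q1_0 N1inv0
  have q1_1 : Realised (ptsStab Q ([⟨0, by decide⟩] : List (Fin 136))) N1g1 :=
    realised_new (prev := ([] : List (Fin 136))) (ts := [N0g0, N0g0, N0g1, N0g2, N0g2, N0g3, N0g0, N0g3, N0g2, N0g2, N0g2, N0g2])
      (List.forall_mem_cons.mpr ⟨q0_0, (List.forall_mem_cons.mpr ⟨q0_0, (List.forall_mem_cons.mpr ⟨q0_1, (List.forall_mem_cons.mpr ⟨q0_2, (List.forall_mem_cons.mpr ⟨q0_2, (List.forall_mem_cons.mpr ⟨q0_3, (List.forall_mem_cons.mpr ⟨q0_0, (List.forall_mem_cons.mpr ⟨q0_3, (List.forall_mem_cons.mpr ⟨q0_2, (List.forall_mem_cons.mpr ⟨q0_2, (List.forall_mem_cons.mpr ⟨q0_2, (List.forall_mem_cons.mpr ⟨q0_2, (fun _ h => absurd h List.not_mem_nil)⟩)⟩)⟩)⟩)⟩)⟩)⟩)⟩)⟩)⟩)⟩)⟩) N1eq1 (by decide +kernel)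
  have q1_4 : Realised (ptsStab Q ([⟨0, by decide⟩] : List (Fin 136))) N1g4 := Realised.inv q1_1 N1inv1
  have q1_2 : Realised (ptsStab Q ([⟨0, by decide⟩] : List (Fin 136))) N1g2 :=
    realised_new (prev := ([] : List (Fin 136))) (ts := [N0g0, N0g1, N0g0, N0g1, N0g2, N0g3, N0g0, N0g3, N0g2, N0g3, N0g2])
      (List.forall_mem_cons.mpr ⟨q0_0, (List.forall_mem_cons.mpr ⟨q0_1, (List.forall_mem_cons.mpr ⟨q0_0, (List.forall_mem_cons.mpr ⟨q0_1, (List.forall_mem_cons.mpr ⟨q0_2, (List.forall_mem_cons.mpr ⟨q0_3, (List.forall_mem_cons.mpr ⟨q0_0, (List.forall_mem_cons.mpr ⟨q0_3, (List.forall_mem_cons.mpr ⟨q0_2, (List.forall_mem_cons.mpr ⟨q0_3, (List.forall_mem_cons.mpr ⟨q0_2, (fun _ h => absurd h List.not_mem_nil)⟩)⟩)⟩)⟩)⟩)⟩)⟩)⟩)⟩)⟩)⟩) N1eq2 (by decide +kernel)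
  have q1_5 : Realised (ptsStab Q ([⟨0, by decide⟩] : List (Fin 136))) N1g5 := Realised.inv q1_2 N1inv2
  have R1 : ∀ t ∈ [N1g0, N1g1, N1g2, N1g3, N1g4, N1g5], Realised (ptsStab Q ([⟨0, by decide⟩] : List (Fin 136))) t :=
    List.forall_mem_cons.mpr ⟨q1_0, List.forall_mem_cons.mpr ⟨q1_1, List.forall_mem_cons.mpr ⟨q1_2, List.forall_mem_cons.mpr ⟨q1_3, List.forall_mem_cons.mpr ⟨q1_4, List.forall_mem_cons.mpr ⟨q1_5, (fun _ h => absurd h List.not_mem_nil)⟩⟩⟩⟩⟩⟩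
  have q2_0 : Realised (ptsStab Q ([⟨0, by decide⟩, ⟨1, by decide⟩] : List (Fin 136))) N2g0 :=
    realised_new (prev := ([⟨0, by decide⟩] : List (Fin 136))) (ts := [N1g0, N1g4, N1g2, N1g1, N1g5, N1g3])
      (List.forall_mem_cons.mpr ⟨q1_0, (List.forall_mem_cons.mpr ⟨q1_4, (List.forall_mem_cons.mpr ⟨q1_2, (List.forall_mem_cons.mpr ⟨q1_1, (List.forall_mem_cons.mpr ⟨q1_5, (List.forall_mem_cons.mpr ⟨q1_3, (fun _ h => absurd h List.not_mem_nil)⟩)⟩)⟩)⟩)⟩)⟩) N2eq0 (by decide +kernel)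
  have q2_3 : Realised (ptsStab Q ([⟨0, by decide⟩, ⟨1, by decide⟩] : List (Fin 136))) N2g3 := Realised.inv q2_0 N2inv0
  have q2_1 : Realised (ptsStab Q ([⟨0, by decide⟩, ⟨1, by decide⟩] : List (Fin 136))) N2g1 :=
    realised_new (prev := ([⟨0, by decide⟩] : List (Fin 136))) (ts := [N1g1, N1g2, N1g4, N1g2, N1g1, N1g5])
      (List.forall_mem_cons.mpr ⟨q1_1, (List.forall_mem_cons.mpr ⟨q1_2, (List.forall_mem_cons.mpr ⟨q1_4, (List.forall_mem_cons.mpr ⟨q1_2, (List.forall_mem_cons.mpr ⟨q1_1, (List.forall_mem_cons.mpr ⟨q1_5, (fun _ h => absurd h List.not_mem_nil)⟩)⟩)⟩)⟩)⟩)⟩) N2eq1 (by decide +kernel)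
  have q2_4 : Realised (ptsStab Q ([⟨0, by decide⟩, ⟨1, by decide⟩] : List (Fin 136))) N2g4 := Realised.inv q2_1 N2inv1
  have q2_2 : Realised (ptsStab Q ([⟨0, by decide⟩, ⟨1, by decide⟩] : List (Fin 136))) N2g2 :=
    realised_new (prev := ([⟨0, by decide⟩] : List (Fin 136))) (ts := [N1g2, N1g4, N1g4, N1g5, N1g3, N1g4, N1g3])
      (List.forall_mem_cons.mpr ⟨q1_2, (List.forall_mem_cons.mpr ⟨q1_4, (List.forall_mem_cons.mpr ⟨q1_4, (List.forall_mem_cons.mpr ⟨q1_5, (List.forall_mem_cons.mpr ⟨q1_3, (List.forall_mem_cons.mpr ⟨q1_4, (List.forall_mem_cons.mpr ⟨q1_3, (fun _ h => absurd h List.not_mem_nil)⟩)⟩)⟩)⟩)⟩)⟩)⟩) N2eq2 (by decide +kernel)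
  have q2_5 : Realised (ptsStab Q ([⟨0, by decide⟩, ⟨1, by decide⟩] : List (Fin 136))) N2g5 := Realised.inv q2_2 N2inv2
  have R2 : ∀ t ∈ [N2g0, N2g1, N2g2, N2g3, N2g4, N2g5], Realised (ptsStab Q ([⟨0, by decide⟩, ⟨1, by decide⟩] : List (Fin 136))) t :=
    List.forall_mem_cons.mpr ⟨q2_0, List.forall_mem_cons.mpr ⟨q2_1, List.forall_mem_cons.mpr ⟨q2_2, List.forall_mem_cons.mpr ⟨q2_3, List.forall_mem_cons.mpr ⟨q2_4, List.forall_mem_cons.mpr ⟨q2_5, (fun _ h => absurd h List.not_mem_nil)⟩⟩⟩⟩⟩⟩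
  have q3_0 : Realised (ptsStab Q ([⟨0, by decide⟩, ⟨1, by decide⟩, ⟨2, by decide⟩] : List (Fin 136))) N3g0 :=
    realised_new (prev := ([⟨0, by decide⟩, ⟨1, by decide⟩] : List (Fin 136))) (ts := [N2g0, N2g2, N2g1, N2g1, N2g2, N2g4, N2g3])
      (List.forall_mem_cons.mpr ⟨q2_0, (List.forall_mem_cons.mpr ⟨q2_2, (List.forall_mem_cons.mpr ⟨q2_1, (List.forall_mem_cons.mpr ⟨q2_1, (List.forall_mem_cons.mpr ⟨q2_2, (List.forall_mem_cons.mpr ⟨q2_4, (List.forall_mem_cons.mpr ⟨q2_3, (fun _ h => absurd h List.not_mem_nil)⟩)⟩)⟩)⟩)⟩)⟩)⟩) N3eq0 (by decide +kernel)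
  have q3_3 : Realised (ptsStab Q ([⟨0, by decide⟩, ⟨1, by decide⟩, ⟨2, by decide⟩] : List (Fin 136))) N3g3 := Realised.inv q3_0 N3inv0
  have q3_1 : Realised (ptsStab Q ([⟨0, by decide⟩, ⟨1, by decide⟩, ⟨2, by decide⟩] : List (Fin 136))) N3g1 :=
    realised_new (prev := ([⟨0, by decide⟩, ⟨1, by decide⟩] : List (Fin 136))) (ts := [N2g0, N2g1, N2g2, N2g3, N2g4])
      (List.forall_mem_cons.mpr ⟨q2_0, (List.forall_mem_cons.mpr ⟨q2_1, (List.forall_mem_cons.mpr ⟨q2_2, (List.forall_mem_cons.mpr ⟨q2_3, (List.forall_mem_cons.mpr ⟨q2_4, (fun _ h => absurd h List.not_mem_nil)⟩)⟩)⟩)⟩)⟩) N3eq1 (by decide +kernel)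
  have q3_4 : Realised (ptsStab Q ([⟨0, by decide⟩, ⟨1, by decide⟩, ⟨2, by decide⟩] : List (Fin 136))) N3g4 := Realised.inv q3_1 N3inv1
  have q3_2 : Realised (ptsStab Q ([⟨0, by decide⟩, ⟨1, by decide⟩, ⟨2, by decide⟩] : List (Fin 136))) N3g2 :=
    realised_new (prev := ([⟨0, by decide⟩, ⟨1, by decide⟩] : List (Fin 136))) (ts := [N2g0, N2g4, N2g4, N2g3, N2g4])
      (List.forall_mem_cons.mpr ⟨q2_0, (List.forall_mem_cons.mpr ⟨q2_4, (List.forall_mem_cons.mpr ⟨q2_4, (List.forall_mem_cons.mpr ⟨q2_3, (List.forall_mem_cons.mpr ⟨q2_4, (fun _ h => absurd h List.not_mem_nil)⟩)⟩)⟩)⟩)⟩) N3eq2 (by decide +kernel)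
  have q3_5 : Realised (ptsStab Q ([⟨0, by decide⟩, ⟨1, by decide⟩, ⟨2, by decide⟩] : List (Fin 136))) N3g5 := Realised.inv q3_2 N3inv2
  have R3 : ∀ t ∈ [N3g0, N3g1, N3g2, N3g3, N3g4, N3g5], Realised (ptsStab Q ([⟨0, by decide⟩, ⟨1, by decide⟩, ⟨2, by decide⟩] : List (Fin 136))) t :=
    List.forall_mem_cons.mpr ⟨q3_0, List.forall_mem_cons.mpr ⟨q3_1, List.forall_mem_cons.mpr ⟨q3_2, List.forall_mem_cons.mpr ⟨q3_3, List.forall_mem_cons.mpr ⟨q3_4, List.forall_mem_cons.mpr ⟨q3_5, (fun _ h => absurd h List.not_mem_nil)⟩⟩⟩⟩⟩⟩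
  have q4_0 : Realised (ptsStab Q ([⟨0, by decide⟩, ⟨1, by decide⟩, ⟨2, by decide⟩, ⟨3, by decide⟩] : List (Fin 136))) N4g0 :=
    realised_new (prev := ([⟨0, by decide⟩, ⟨1, by decide⟩, ⟨2, by decide⟩] : List (Fin 136))) (ts := [N3g2, N3g4, N3g3])
      (List.forall_mem_cons.mpr ⟨q3_2, (List.forall_mem_cons.mpr ⟨q3_4, (List.forall_mem_cons.mpr ⟨q3_3, (fun _ h => absurd h List.not_mem_nil)⟩)⟩)⟩) N4eq0 (by decide +kernel)
  have q4_1 : Realised (ptsStab Q ([⟨0, by decide⟩, ⟨1, by decide⟩, ⟨2, by decide⟩, ⟨3, by decide⟩] : List (Fin 136))) N4g1 := Realised.inv q4_0 N4inv0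
  have R4 : ∀ t ∈ [N4g0, N4g1], Realised (ptsStab Q ([⟨0, by decide⟩, ⟨1, by decide⟩, ⟨2, by decide⟩, ⟨3, by decide⟩] : List (Fin 136))) t :=
    List.forall_mem_cons.mpr ⟨q4_0, List.forall_mem_cons.mpr ⟨q4_1, (fun _ h => absurd h List.not_mem_nil)⟩⟩
  have c5 : 1 ≤ Nat.card (ptsStab Q ([⟨0, by decide⟩, ⟨1, by decide⟩, ⟨2, by decide⟩, ⟨3, by decide⟩, ⟨5, by decide⟩] : List (Fin 136))) := one_le_card_ptsStab _ _
  have c4 : 2 ≤ Nat.card (ptsStab Q ([⟨0, by decide⟩, ⟨1, by decide⟩, ⟨2, by decide⟩, ⟨3, by decide⟩] : List (Fin 136))) := by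
    have h := card_ptsStab_ge ([⟨0, by decide⟩, ⟨1, by decide⟩, ⟨2, by decide⟩, ⟨3, by decide⟩] : List (Fin 136)) (⟨5, by decide⟩ : Fin 136) _ R4 N4mark N4rk N4via N4src
      N4reach N4count c5
    exact h
  have c3 : 6 ≤ Nat.card (ptsStab Q ([⟨0, by decide⟩, ⟨1, by decide⟩, ⟨2, by decide⟩] : List (Fin 136))) := by
    have h := card_ptsStab_ge ([⟨0, by decide⟩, ⟨1, by decide⟩, ⟨2, by decide⟩] : List (Fin 136)) (⟨3, by decide⟩ : Fin 136) _ R3 N3mark N3rk N3via N3src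
      N3reach N3count c4
    exact h
  have c2 : 120 ≤ Nat.card (ptsStab Q ([⟨0, by decide⟩, ⟨1, by decide⟩] : List (Fin 136))) := by
    have h := card_ptsStab_ge ([⟨0, by decide⟩, ⟨1, by decide⟩] : List (Fin 136)) (⟨2, by decide⟩ : Fin 136) _ R2 N2mark N2rk N2via N2src
      N2reach N2count c3
    exact h
  have c1 : 7200 ≤ Nat.card (ptsStab Q ([⟨0, by decide⟩] : List (Fin 136))) := by
    have h := card_ptsStab_ge ([⟨0, by decide⟩] : List (Fin 136)) (⟨1, by decide⟩ : Fin 136) _ R1 N1mark N1rk N1via N1src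
      N1reach N1count c2
    exact h
  have c0 : 979200 ≤ Nat.card (ptsStab Q ([] : List (Fin 136))) := by
    have h := card_ptsStab_ge ([] : List (Fin 136)) (⟨0, by decide⟩ : Fin 136) _ R0 N0mark N0rk N0via N0src
      N0reach N0count c1
    exact h
  rw [ptsStab_nil] at c0
  exact c0

end CfsgLib.SporadicB.He
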